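import Groth.Agent.S9413
import Groth.Agent.S7603
import Groth.Agent.S9812

/-! Geometric fibres of normal morphisms. -/

set_option autoImplicit false
set_option linter.style.haveILetI false
set_option backward.isDefEq.respectTransparency false
universe u
open CategoryTheory CategoryTheory.Limits AlgebraicGeometry TopologicalSpace TensorProduct

noncomputable section

namespace Groth.Agent.NormFib

theorem isDomain_stalk_of_isOpenImmersion {P Z : Scheme.{u}} (j : P ⟶ Z) [IsOpenImmersion j] (x : P) :
    IsDomain (Z.presheaf.stalk (j x)) ↔ IsDomain (P.presheaf.stalk x) :=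
  ⟨fun h => by haveI := h; exact ((asIso (j.stalkMap x)).symm.commRingCatIsoToRingEquiv).toMulEquiv.isDomain _,
    fun h => by haveI := h; exact ((asIso (j.stalkMap x)).commRingCatIsoToRingEquiv).toMulEquiv.isDomain _⟩

theorem isDomain_stalk_spec (R : Type u) [CommRing R] (hR : EGA4.IsNormalRing R) (x : Spec (CommRingCat.of R)) :
    IsDomain ((Spec (CommRingCat.of R)).presheaf.stalk x) := by
  haveI := (hR (show PrimeSpectrum R from x).asIdeal).1
  exact (Spec.stalkIso (CommRingCat.of R) x).commRingCatIsoToRingEquiv.toMulEquiv.isDomain _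

theorem isNormalRing_of_field (K : Type u) [Field K] : EGA4.IsNormalRing K := fun p _ => by
  haveI : IsDomain (Localization.AtPrime p) := IsLocalization.isDomain_of_atPrime _ p
  exact ⟨inferInstance, isIntegrallyClosed_of_isLocalization _ p.primeCompl p.primeCompl_le_nonZeroDivisors⟩

variable {Y S : Scheme.{u}} (h : Y ⟶ S)

/-- affine charts are normal -/
def IsNormalMor : Prop :=
  ∀ (U : Y.Opens) (V : S.Opens) (_ : IsAffineOpen U) (_ : IsAffineOpen V) (hUV : U ≤ h ⁻¹ᵁ V),
    letI := (h.appLE V U hUV).hom.toAlgebra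
    EGA4.IsNormalHom Γ(S, V) Γ(Y, U)

variable {h}

theorem IsNormalMor.flat (hn : IsNormalMor h) : Flat h := by
  rw [HasRingHomProperty.iff_appLE (P := @Flat)]
  intro V U e
  exact (hn U V U.2 V.2 e).1

/-- Every local ring of every fibre over a field-valued point is a domain. -/
theorem IsNormalMor.isDomain_stalk (hn : IsNormalMor h) {K : Type u} [Field K] (v : Spec (CommRingCat.of K) ⟶ S)
    (z : ↥(pullback h v)) : IsDomain ((pullback h v).presheaf.stalk z) := by
  let y := pullback.fst h v z
  have hy : h y = v (IsLocalRing.closedPoint K) := by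
    have e : (pullback.fst h v ≫ h) z = (pullback.snd h v ≫ v) z :=
      congrArg (fun φ : pullback h v ⟶ S => φ z) pullback.condition
    rw [Scheme.Hom.comp_apply, Scheme.Hom.comp_apply] at e
    rw [show (pullback.snd h v z : Spec (CommRingCat.of K)) = IsLocalRing.closedPoint K from Subsingleton.elim (α := PrimeSpectrum K) _ _] at e
    exact e
  obtain ⟨V, hV, hyV, -⟩ := exists_isAffineOpen_mem_and_subset (x := h y) (U := ⊤) trivial
  obtain ⟨U, hU, hyU, hUV⟩ := exists_isAffineOpen_mem_and_subset (x := y) (U := h ⁻¹ᵁ V) hyV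
  letI := (h.appLE V U hUV).hom.toAlgebra
  let A := Γ(S, V)
  let B := Γ(Y, U)
  have hv : Set.range v ⊆ Set.range hV.fromSpec := by
    rintro _ ⟨w, rfl⟩
    rw [hV.range_fromSpec, show (w : PrimeSpectrum K) = IsLocalRing.closedPoint K from Subsingleton.elim (α := PrimeSpectrum K) _ _, ← hy]
    exact hyV
  let v' := IsOpenImmersion.lift hV.fromSpec v hv
  let φ := Spec.preimage v'
  letI : Algebra A K := φ.hom.toAlgebra
  let ι : Spec (CommRingCat.of B) ⟶ Y := hU.fromSpec
  have hι : ι ≫ h = Spec.map (CommRingCat.ofHom (algebraMap A B)) ≫ hV.fromSpec :=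
    (IsAffineOpen.SpecMap_appLE_fromSpec h hV hU hUV).symm
  have hvφ : Spec.map (CommRingCat.ofHom (algebraMap A K)) ≫ hV.fromSpec = v := by
    show Spec.map φ ≫ hV.fromSpec = v
    rw [Spec.map_preimage, IsOpenImmersion.lift_fac]
  let j : pullback (Spec.map (CommRingCat.ofHom (algebraMap A B))) (Spec.map (CommRingCat.ofHom (algebraMap A K))) ⟶ pullback h v :=
    pullback.map _ _ h v ι (𝟙 _) hV.fromSpec hι.symm (by rw [Category.id_comp, hvφ])
  haveI : IsOpenImmersion j := inferInstanceAs (IsOpenImmersion (pullback.map _ _ h v ι (𝟙 _) hV.fromSpec _ _))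
  obtain ⟨w, hw⟩ : z ∈ Set.range j := by
    show z ∈ Set.range (pullback.map _ _ h v ι (𝟙 _) hV.fromSpec hι.symm (by rw [Category.id_comp, hvφ]))
    rw [Scheme.Pullback.range_map]
    refine ⟨?_, by simp⟩
    show y ∈ Set.range hU.fromSpec
    rw [hU.range_fromSpec]
    exact hyU
  rw [← hw, isDomain_stalk_of_isOpenImmersion j w,
    ← isDomain_stalk_of_isOpenImmersion (pullbackSpecIso A B K).hom w]
  -- the fibre ring
  let p : Ideal A := RingHom.ker (algebraMap A K)
  haveI : p.IsPrime := RingHom.ker_isPrime _
  letI : Algebra p.ResidueField K :=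
    (Ideal.ResidueField.lift p (algebraMap A K) le_rfl (fun a (ha : a ∉ p) => IsUnit.mk0 _ ha)).toAlgebra
  haveI : IsScalarTower A p.ResidueField K := IsScalarTower.of_algebraMap_eq fun a =>
    (Ideal.ResidueField.lift_algebraMap p (algebraMap A K) _ _ a).symm
  have h1 : EGA4.IsNormalRing (p.Fiber B ⊗[p.ResidueField] K) :=
    Groth.Agent.S9413.result p.ResidueField (p.Fiber B) K ((hn U V hU hV hUV).2 p) (isNormalRing_of_field K)
  let e : (p.Fiber B ⊗[p.ResidueField] K) ≃+* (B ⊗[A] K) :=
    ((Algebra.TensorProduct.comm p.ResidueField (p.Fiber B) K).toRingEquiv.trans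
      (Algebra.TensorProduct.cancelBaseChange A p.ResidueField K K B).toRingEquiv).trans
      (Algebra.TensorProduct.comm A K B).toRingEquiv
  let φe : CommRingCat.of (p.Fiber B ⊗[p.ResidueField] K) ⟶ CommRingCat.of (B ⊗[A] K) := CommRingCat.ofHom e.toRingHom
  haveI : IsIso φe := (ConcreteCategory.isIso_iff_bijective φe).2 e.bijective
  rw [← isDomain_stalk_of_isOpenImmersion (Spec.map φe)]
  exact isDomain_stalk_spec _ h1 _

theorem IsNormalMor.geometricallyReduced (hn : IsNormalMor h) : GeometricallyReduced h := by
  refine ⟨fun K _ v Z a b hb => ?_⟩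
  haveI : ∀ z : ↥(pullback h v), _root_.IsReduced ((pullback h v).presheaf.stalk z) := fun z => by
    haveI := hn.isDomain_stalk v z
    infer_instance
  haveI : IsReduced (pullback h v) := isReduced_of_isReduced_stalk _
  exact isReduced_of_isOpenImmersion hb.isoPullback.hom

/-- An open piece with geometrically connected fibres of a base change is geometrically integral. -/
theorem IsNormalMor.geometricallyIntegral_open (hn : IsNormalMor h) {S' : Scheme.{u}} (g : S' ⟶ S)
    [LocallyOfFiniteType h] (V : (pullback h g).Opens) [QuasiCompact (V.ι ≫ pullback.snd h g)]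
    [hc : GeometricallyConnected (V.ι ≫ pullback.snd h g)] : GeometricallyIntegral (V.ι ≫ pullback.snd h g) := by
  refine ⟨fun K _ v Z a b hb => ?_⟩
  haveI : ConnectedSpace Z := hc.geometrically_connectedSpace v a b hb
  haveI : LocallyOfFiniteType b := MorphismProperty.of_isPullback (P := @LocallyOfFiniteType) hb inferInstance
  haveI : QuasiCompact b := MorphismProperty.of_isPullback (P := @QuasiCompact) hb inferInstance
  haveI : IsLocallyNoetherian Z := LocallyOfFiniteType.isLocallyNoetherian b
  haveI : CompactSpace Z := QuasiCompact.compactSpace_of_compactSpace b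
  haveI : IsNoetherian Z := { __ := (inferInstance : IsLocallyNoetherian Z) }
  -- an open immersion into the fibre of `h`
  let P := pullback h (v ≫ g)
  let j : Z ⟶ P := pullback.lift (a ≫ V.ι ≫ pullback.fst h g) b (by
    rw [Category.assoc, Category.assoc, pullback.condition, ← Category.assoc V.ι, ← Category.assoc, hb.w, Category.assoc])
  have hbig : IsPullback (pullback.fst h (v ≫ g)) (pullback.snd h (v ≫ g)) h (v ≫ g) := .of_hasPullback _ _
  let q : P ⟶ pullback h g := pullback.lift (pullback.fst h (v ≫ g)) (pullback.snd h (v ≫ g) ≫ v)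
    (pullback.condition.trans (Category.assoc _ _ _).symm)
  have hq : IsPullback q (pullback.snd h (v ≫ g)) (pullback.snd h g) v := by
    refine IsPullback.of_right ?_ (pullback.lift_snd _ _ _) (IsPullback.of_hasPullback h g)
    rw [pullback.lift_fst]
    exact hbig
  have hj : IsPullback a j V.ι q := by
    refine IsPullback.of_bot ?_ ?_ hq
    · rw [pullback.lift_snd]
      exact hb
    · apply pullback.hom_ext
      · simp [j, q, pullback.lift_fst]
      · simp [j, q, pullback.lift_snd, pullback.lift_snd_assoc, hb.w]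
  haveI : IsOpenImmersion j := MorphismProperty.of_isPullback (P := @IsOpenImmersion) hj inferInstance
  have hdom : ∀ z : Z, IsDomain (Z.presheaf.stalk z) := fun z =>
    (isDomain_stalk_of_isOpenImmersion j z).1 (hn.isDomain_stalk (v ≫ g) (j z))
  haveI := Groth.Agent.S7603.irreducibleSpace_of_domains Z hdom
  haveI : ∀ z : Z, _root_.IsReduced (Z.presheaf.stalk z) := fun z => by haveI := hdom z; infer_instance
  haveI : IsReduced Z := isReduced_of_isReduced_stalk _
  exact isIntegral_of_irreducibleSpace_of_isReduced _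

end Groth.Agent.NormFib
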